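import Cfsg.Agent.StdO8.Lattice

/-! Tables for signed permutations of the frame. -/

set_option autoImplicit false
set_option maxRecDepth 8000

namespace CfsgLib.StdO8

/-- The generating permutations of the frame. -/
def genPerms : List (List (Fin 8)) := [
  [1, 0, 3, 2, 5, 4, 7, 6],
  [2, 3, 0, 1, 6, 7, 4, 5],
  [4, 5, 6, 7, 0, 1, 2, 3],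
  [0, 1, 3, 2, 4, 5, 7, 6],
  [0, 1, 2, 3, 5, 4, 7, 6],
  [0, 1, 2, 3, 6, 7, 4, 5],
  [0, 2, 4, 6, 1, 3, 5, 7]]

/-- Words realising them. -/
def genWords : List (List (Fin 8)) := [
  [1, 2, 0, 3, 1, 2, 0, 3, 5, 4, 3, 1, 2, 3, 4, 5, 7, 6, 5, 4, 3, 1, 2, 0, 3, 2, 4, 3, 1, 5, 6, 7],
  [2, 0, 4, 3, 1, 2, 0, 3, 5, 4, 3, 1, 2, 3, 4, 5, 7, 6, 5, 4, 3, 1, 2, 0, 3, 2, 4, 3, 5, 4, 6, 7],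
  [1, 5, 4, 3, 1, 2, 0, 3, 2, 6, 5, 4, 3, 1, 2, 0, 3, 2, 4, 3, 7, 6, 5, 4, 3, 1, 2, 0, 3, 2, 4, 3, 1, 5, 4, 3, 6, 5, 4, 7, 6, 5],
  [1, 2, 0, 3, 1, 2, 0, 3, 7, 6, 5, 4, 3, 1, 2, 0, 3, 2, 4, 3, 1, 5, 6, 7],
  [1, 3, 2, 0, 5, 4, 3, 1, 2, 3, 4, 5, 7, 6, 5, 4, 3, 1, 2, 0, 3, 2, 4, 3, 1, 5, 6, 7],
  [4, 3, 2, 0, 5, 4, 3, 1, 2, 3, 4, 5, 7, 6, 5, 4, 3, 1, 2, 0, 3, 2, 4, 3, 5, 4, 6, 7],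
  [4, 3, 5, 4, 3, 1, 6, 5]]

/-- Products of generators running through a Sylow subgroup. -/
def sylSeq : List (List (Fin 7)) := [
  [], [0], [1], [2], [3], [4], [5], [0, 1],
  [0, 2], [0, 3], [0, 4], [0, 5], [1, 2], [1, 3], [1, 4], [1, 5],
  [2, 3], [2, 4], [2, 5], [3, 1], [3, 4], [3, 5], [4, 2], [4, 5],
  [5, 2], [5, 3], [0, 1, 2], [0, 1, 4], [0, 1, 5], [0, 2, 3], [0, 2, 5], [0, 3, 4],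
  [0, 3, 5], [0, 4, 5], [0, 5, 2], [0, 5, 3], [1, 2, 3], [1, 2, 4], [1, 3, 4], [1, 3, 5],
  [1, 4, 2], [1, 4, 5], [1, 5, 3], [2, 3, 1], [2, 3, 4], [2, 3, 5], [2, 4, 5], [2, 5, 3],
  [3, 1, 4], [3, 1, 5], [3, 4, 2], [3, 5, 2], [4, 2, 5], [4, 5, 2], [5, 2, 3], [5, 2, 4],
  [5, 3, 1], [0, 1, 4, 5], [0, 2, 3, 5], [0, 2, 5, 3], [0, 3, 5, 2], [0, 5, 2, 3], [1, 2, 3, 4], [1, 3, 4, 2]]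

/-- The involutions among them. -/
def invSeq : List (List (Fin 7)) := [
  [0], [1], [2], [3], [4], [5], [0, 1], [0, 2],
  [0, 3], [0, 4], [0, 5], [1, 2], [1, 4], [1, 5], [2, 3], [3, 4],
  [4, 5], [0, 1, 2], [0, 1, 4], [0, 1, 5], [0, 2, 3], [0, 3, 4], [0, 4, 5], [1, 4, 5],
  [0, 1, 4, 5], [1, 2, 3, 4], [1, 3, 4, 2]]

/-- Words making them diagonal. -/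
def invWord : List (List (Fin 8)) := [
  [6, 7, 5, 6, 4, 5, 3, 4, 2, 3, 0, 2, 0, 2, 0, 3, 2, 4, 3, 5, 4, 6, 5, 7, 6, 3, 2, 1, 3, 0, 2, 0, 2, 0, 3, 1, 2, 3, 3, 4, 2, 3, 0, 2, 0, 2, 0, 3, 2, 4, 3, 2, 3, 1, 4, 3],
  [6, 7, 5, 6, 4, 5, 3, 4, 2, 3, 0, 2, 0, 2, 0, 3, 2, 4, 3, 5, 4, 6, 5, 7, 6, 2, 3, 1, 4, 3],
  [7, 5, 6, 4, 5, 3, 4, 2, 3, 0, 2, 0, 2, 0, 3, 2, 4, 3, 5, 4, 6, 5, 7, 6, 5, 3, 4, 2, 3, 0, 2, 0, 2, 0, 3, 2, 4, 3, 5, 6, 2, 3, 1, 4, 3, 5, 6],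
  [6, 7, 5, 6, 4, 5, 3, 4, 2, 3, 0, 2, 0, 2, 0, 3, 2, 4, 3, 5, 4, 6, 5, 7, 6, 5, 4, 2, 1, 3, 0, 2, 0, 2, 0, 3, 1, 2, 4, 5, 6, 4, 5, 3, 4, 2, 3, 0, 2, 0, 2, 0, 3, 2, 4, 3, 5, 4, 6],
  [6, 7, 5, 6, 4, 5, 3, 4, 2, 3, 0, 2, 0, 2, 0, 3, 2, 4, 3, 5, 4, 6, 5, 7, 6],
  [6, 7, 5, 6, 4, 5, 3, 4, 2, 3, 0, 2, 0, 2, 0, 3, 2, 4, 3, 5, 4, 6, 5, 7, 6],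
  [6, 7, 5, 6, 4, 5, 3, 4, 2, 3, 0, 2, 0, 2, 0, 3, 2, 4, 3, 5, 4, 6, 5, 7, 6, 5, 4, 2, 3, 0, 2, 0, 2, 0, 3, 2, 4, 5, 4, 5, 2, 3, 4, 1, 3, 2, 0, 2, 3, 1, 4, 3, 2, 5, 4, 2, 3, 1, 4, 3],
  [7, 5, 6, 4, 5, 3, 4, 2, 3, 0, 2, 0, 2, 0, 3, 2, 4, 3, 5, 4, 6, 5, 7, 2, 3, 0, 2, 0, 2, 0, 3, 2, 6, 3, 4, 5, 2, 3, 4, 1, 3, 2, 0, 2, 3, 1, 4, 3, 2, 5, 4, 3, 6, 2, 3, 1, 4, 3, 5, 6],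
  [6, 7, 5, 6, 4, 5, 3, 4, 2, 3, 0, 2, 0, 2, 0, 3, 2, 4, 3, 5, 4, 6, 5, 7, 6, 7, 6, 5, 4, 2, 1, 3, 0, 2, 0, 2, 0, 3, 1, 2, 4, 5, 6, 7, 5, 6, 7, 4, 5, 6, 3, 4, 5, 2, 3, 4, 1, 3, 2, 0, 2, 3, 1, 4, 3, 2, 5, 4, 3, 6, 5, 4, 7, 6, 5, 3, 2, 1, 3, 0, 2, 0, 2, 0, 3, 1, 2, 3, 3, 4, 2, 3, 0, 2, 0, 2, 0, 3, 2, 4, 3, 2, 0, 3, 1, 2, 4],
  [7, 6, 5, 4, 2, 1, 3, 0, 2, 0, 2, 0, 3, 1, 2, 4, 5, 6, 7, 5, 6, 7, 4, 5, 6, 3, 4, 5, 2, 3, 4, 1, 3, 2, 0, 2, 3, 1, 4, 3, 2, 5, 4, 3, 6, 5, 4, 7, 6, 5, 3, 2, 1, 3, 0, 2, 0, 2, 0, 3, 1, 2, 3, 4, 5, 2, 3, 4, 1, 3, 2, 0, 2, 3, 1, 4, 3, 2, 5, 4, 2, 0, 3, 2, 4, 3, 5, 4, 6, 5],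
  [6, 7, 5, 6, 4, 5, 3, 4, 2, 3, 0, 2, 0, 2, 0, 3, 2, 4, 3, 5, 4, 6, 5, 7, 6, 3, 2, 1, 3, 0, 2, 0, 2, 0, 3, 1, 2, 3, 3, 4, 2, 3, 0, 2, 0, 2, 0, 3, 2, 4, 3, 2, 3, 1, 4, 3],
  [7, 5, 6, 4, 5, 3, 4, 2, 3, 0, 2, 0, 2, 0, 3, 2, 4, 3, 5, 4, 6, 5, 7, 5, 2, 3, 4, 1, 3, 2, 0, 2, 3, 1, 4, 3, 2, 5, 5, 6, 7, 4, 5, 6, 3, 4, 5, 2, 3, 4, 1, 3, 2, 0, 2, 3, 1, 4, 3, 2, 5, 4, 3, 6, 5, 4, 7, 6, 5, 3, 2, 1, 3, 0, 2, 0, 2, 0, 3, 1, 2, 3, 6, 4, 5, 2, 3, 4, 1, 3, 2, 0, 2, 3, 1, 4, 3, 2, 5, 4, 6, 2, 3, 1, 4, 3, 2, 5, 4, 3, 1, 6, 5, 4, 3, 2, 0, 7, 6, 5, 4, 3],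
  [6, 7, 5, 6, 4, 5, 3, 4, 2, 3, 0, 2, 0, 2, 0, 3, 2, 4, 3, 5, 4, 6, 5, 7, 6, 2, 3, 1, 4, 3],
  [7, 6, 5, 4, 2, 1, 3, 0, 2, 0, 2, 0, 3, 1, 2, 4, 5, 6, 7, 5, 6, 7, 4, 5, 6, 3, 4, 5, 2, 3, 4, 1, 3, 2, 0, 2, 3, 1, 4, 3, 2, 5, 4, 3, 6, 5, 4, 7, 6, 5, 3, 2, 1, 3, 0, 2, 0, 2, 0, 3, 1, 2, 3, 4, 5, 2, 3, 4, 1, 3, 2, 0, 2, 3, 1, 4, 3, 2, 5, 4, 2, 0, 3, 2, 4, 3, 5, 4, 6, 5],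
  [7, 5, 6, 4, 5, 3, 4, 2, 3, 0, 2, 0, 2, 0, 3, 2, 4, 3, 5, 4, 6, 5, 7, 6, 5, 3, 4, 2, 3, 0, 2, 0, 2, 0, 3, 2, 4, 3, 5, 6, 2, 3, 1, 4, 3, 5, 6],
  [6, 7, 5, 6, 4, 5, 3, 4, 2, 3, 0, 2, 0, 2, 0, 3, 2, 4, 3, 5, 4, 6, 5, 7, 6, 7, 6, 5, 4, 2, 1, 3, 0, 2, 0, 2, 0, 3, 1, 2, 4, 5, 6, 7, 5, 6, 7, 4, 5, 6, 3, 4, 5, 2, 3, 4, 1, 3, 2, 0, 2, 3, 1, 4, 3, 2, 5, 4, 3, 6, 5, 4, 7, 6, 5],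
  [6, 7, 5, 6, 4, 5, 3, 4, 2, 3, 0, 2, 0, 2, 0, 3, 2, 4, 3, 5, 4, 6, 5, 7, 6],
  [7, 5, 6, 4, 5, 3, 4, 2, 3, 0, 2, 0, 2, 0, 3, 2, 4, 3, 5, 4, 6, 5, 7, 5, 2, 3, 4, 1, 3, 2, 0, 2, 3, 1, 4, 3, 2, 5, 5, 6, 7, 4, 5, 6, 3, 4, 5, 2, 3, 4, 1, 3, 2, 0, 2, 3, 1, 4, 3, 2, 5, 4, 3, 6, 5, 4, 7, 6, 5, 3, 2, 1, 3, 0, 2, 0, 2, 0, 3, 1, 2, 3, 7, 6, 5, 3, 4, 2, 3, 0, 2, 0, 2, 0, 3, 2, 4, 3, 5, 6, 7, 2, 3, 1, 4, 3, 2, 5, 4, 3, 1, 6, 5, 4, 3, 2, 0, 7, 6, 5, 4, 3],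
  [6, 7, 5, 6, 4, 5, 3, 4, 2, 3, 0, 2, 0, 2, 0, 3, 2, 4, 3, 5, 4, 6, 5, 7, 6, 5, 4, 2, 3, 0, 2, 0, 2, 0, 3, 2, 4, 5, 4, 5, 2, 3, 4, 1, 3, 2, 0, 2, 3, 1, 4, 3, 2, 5, 4, 2, 3, 1, 4, 3],
  [6, 7, 5, 6, 4, 5, 3, 4, 2, 3, 0, 2, 0, 2, 0, 3, 2, 4, 3, 5, 4, 6, 5, 7, 6, 5, 4, 2, 3, 0, 2, 0, 2, 0, 3, 2, 4, 5, 4, 5, 2, 3, 4, 1, 3, 2, 0, 2, 3, 1, 4, 3, 2, 5, 4, 2, 3, 1, 4, 3],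
  [7, 5, 6, 4, 5, 3, 4, 2, 3, 0, 2, 0, 2, 0, 3, 2, 4, 3, 5, 4, 6, 5, 7, 2, 3, 0, 2, 0, 2, 0, 3, 2, 6, 3, 4, 5, 2, 3, 4, 1, 3, 2, 0, 2, 3, 1, 4, 3, 2, 5, 4, 3, 6, 2, 3, 1, 4, 3, 5, 6],
  [6, 7, 5, 6, 4, 5, 3, 4, 2, 3, 0, 2, 0, 2, 0, 3, 2, 4, 3, 5, 4, 6, 5, 7, 6, 5, 4, 2, 1, 3, 0, 2, 0, 2, 0, 3, 1, 2, 4, 5, 6, 4, 5, 3, 4, 2, 3, 0, 2, 0, 2, 0, 3, 2, 4, 3, 5, 4, 6, 3, 2, 1, 3, 0, 2, 0, 2, 0, 3, 1, 2, 3, 3, 4, 2, 3, 0, 2, 0, 2, 0, 3, 2, 4, 3, 2, 0, 3, 1, 2, 4],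
  [6, 7, 5, 6, 4, 5, 3, 4, 2, 3, 0, 2, 0, 2, 0, 3, 2, 4, 3, 5, 4, 6, 5, 7, 6, 3, 2, 1, 3, 0, 2, 0, 2, 0, 3, 1, 2, 3, 3, 4, 2, 3, 0, 2, 0, 2, 0, 3, 2, 4, 3, 2, 3, 1, 4, 3],
  [6, 7, 5, 6, 4, 5, 3, 4, 2, 3, 0, 2, 0, 2, 0, 3, 2, 4, 3, 5, 4, 6, 5, 7, 6, 2, 3, 1, 4, 3],
  [7, 6, 5, 4, 2, 1, 3, 0, 2, 0, 2, 0, 3, 1, 2, 4, 5, 6, 7, 5, 6, 7, 4, 5, 6, 3, 4, 5, 2, 3, 4, 1, 3, 2, 0, 2, 3, 1, 4, 3, 2, 5, 4, 3, 6, 5, 4, 7, 6, 5, 3, 2, 1, 3, 0, 2, 0, 2, 0, 3, 1, 2, 3, 4, 5, 2, 3, 4, 1, 3, 2, 0, 2, 3, 1, 4, 3, 2, 5, 4, 2, 0, 3, 2, 4, 3, 5, 4, 6, 5],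
  [7, 5, 6, 4, 5, 3, 4, 2, 3, 0, 2, 0, 2, 0, 3, 2, 4, 3, 5, 4, 6, 5, 7, 5, 2, 3, 4, 1, 3, 2, 0, 2, 3, 1, 4, 3, 2, 5, 5, 6, 7, 4, 5, 6, 3, 4, 5, 2, 3, 4, 1, 3, 2, 0, 2, 3, 1, 4, 3, 2, 5, 4, 3, 6, 5, 4, 7, 6, 5, 3, 2, 1, 3, 0, 2, 0, 2, 0, 3, 1, 2, 3, 6, 4, 5, 2, 3, 4, 1, 3, 2, 0, 2, 3, 1, 4, 3, 2, 5, 4, 6, 2, 3, 1, 4, 3, 2, 5, 4, 3, 1, 6, 5, 4, 3, 2, 0, 7, 6, 5, 4, 3],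
  [7, 5, 6, 4, 5, 3, 4, 2, 3, 0, 2, 0, 2, 0, 3, 2, 4, 3, 5, 4, 6, 5, 7, 5, 2, 3, 4, 1, 3, 2, 0, 2, 3, 1, 4, 3, 2, 5, 5, 6, 7, 4, 5, 6, 3, 4, 5, 2, 3, 4, 1, 3, 2, 0, 2, 3, 1, 4, 3, 2, 5, 4, 3, 6, 5, 4, 7, 6, 5, 3, 2, 1, 3, 0, 2, 0, 2, 0, 3, 1, 2, 3, 7, 6, 5, 3, 4, 2, 3, 0, 2, 0, 2, 0, 3, 2, 4, 3, 5, 6, 7, 2, 3, 1, 4, 3, 2, 5, 4, 3, 1, 6, 5, 4, 3, 2, 0, 7, 6, 5, 4, 3]]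

/-- Permutations moving masks to normal form. -/
def normSeqA : List (List (Fin 7)) := [
  [], [0], [], [1], [6, 6], [2, 6, 5, 6],
  [], [0, 1], [6, 5, 6], [2, 6, 6], [0], [1],
  [1], [0, 1], [], [2], [6], [1, 6, 4],
  [6], [2, 6, 5], [6, 6], [2, 6, 5, 6, 4], [], [2, 6, 5, 3],
  [6, 5, 6], [2, 6, 6, 4], [3], [2, 6, 5], [1, 5], [3, 1, 5],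
  [0, 1, 2], [0, 2], [6, 4], [1, 6], [1, 6], [2, 6, 4, 5],
  [6, 6, 4], [2, 6, 5, 6], [4], [1, 2, 6, 5], [6, 5, 6, 4], [2, 6, 6],
  [0], [1, 2, 6, 5], [1, 3, 5], [0, 1, 5], [1, 2], [2],
  [0, 6], [0, 1, 6], [6], [6, 5, 2], [3, 6], [3, 1, 5, 6],
  [0, 1, 2, 6], [1, 6, 5, 2], [3, 5, 6], [3, 1, 6], [0, 2, 6], [2, 6, 5],
  [0, 1, 6, 5], [0, 6, 5], [1, 2], [1, 2], [6, 5], [1, 6, 4, 5],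
  [6, 5], [2, 6], [0, 6, 6], [6, 5, 2, 6], [5], [1, 2, 6, 4],
  [6, 5, 6, 5], [0, 2, 6, 6, 4], [3, 5], [2, 6], [1], [3, 1],
  [0, 2], [1, 6, 6], [1, 6, 6], [6, 6, 4, 2], [4, 6], [0, 1, 6, 6],
  [6, 6], [3, 1, 5, 6, 6], [0, 1, 2, 6, 6], [0, 6, 6, 4, 2], [1, 3, 5, 6, 6], [2, 6, 6, 4],
  [0, 1, 6, 6, 4], [4, 2, 6], [1, 2, 6, 6], [1, 6, 6, 4], [1, 2, 6, 6], [1, 2, 6, 5, 6],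
  [1, 6, 5, 6, 4], [1, 2, 6, 5, 6], [1, 3, 5, 6], [1, 6, 5, 2, 6], [3, 5, 6, 6], [2, 6, 5, 6],
  [0, 1, 6, 5, 6], [0, 1, 6, 5, 6, 4], [6, 5, 6, 4], [4, 5, 2, 6, 6], [6, 5, 6, 5, 2], [4, 5, 2, 6],
  [6, 5, 6, 4, 2], [1, 6, 5, 6], [1, 6, 5, 6], [2], [2], [4, 2],
  [1, 2, 6], [5, 2], [0, 2, 6, 6], [0, 6, 5, 6], [1, 2, 6], [4, 5, 2],
  [2, 6, 5, 6, 5], [0, 6, 6, 4], [2, 6, 4], [1, 6, 5], [1, 6, 5], [6, 4, 5],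
  [0, 1, 2]]

/-- Permutations moving masks to normal form. -/
def normSeqB : List (List (Fin 7)) := [
  [0, 1, 2], [6, 4, 5], [1, 6, 5], [1, 6, 5], [2, 6, 4], [0, 6, 6, 4],
  [2, 6, 5, 6, 5], [4, 5], [1, 2, 6], [0, 6, 5, 6], [0, 2, 6, 6], [0, 5],
  [1, 2, 6], [1, 3], [0, 1], [2], [1, 6, 5, 6], [1, 6, 5, 6],
  [6, 5, 6, 4, 2], [4, 5, 6], [6, 5, 6, 5, 2], [4, 5, 6, 6], [2, 6, 5, 6, 4], [0, 1, 6, 5, 6, 4],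
  [0, 1, 6, 5, 6], [6, 5, 6], [3, 5, 2, 6, 6], [1, 6, 5, 2, 6], [4, 2, 5, 6], [1, 2, 6, 5, 6],
  [1, 6, 5, 6, 4], [1, 2, 6, 5, 6], [1, 2, 6, 6], [1, 6, 6, 4], [1, 2, 6, 6], [1, 3, 6],
  [0, 1, 6, 6, 4], [6, 6, 4], [4, 2, 5, 6, 6], [0, 6, 6, 4, 2], [0, 1, 2, 6, 6], [2, 3, 5, 6, 6],
  [2, 6, 6], [0, 1, 6, 6], [1, 2, 3, 6], [6, 6, 4, 2], [1, 6, 6], [1, 6, 6],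
  [0, 2], [2, 3], [0, 2], [2, 6], [3, 5, 2], [0, 2, 6, 6, 4],
  [6, 5, 6, 5], [1, 2, 6, 4], [0, 5, 2], [6, 5, 2, 6], [0, 6, 6], [2, 6],
  [6, 5], [1, 6, 4, 5], [6, 5], [1, 2], [1, 2], [0, 6, 5],
  [0, 1, 6, 5], [6, 5], [0, 2, 6], [2, 3, 6], [3, 5, 2, 6], [1, 6, 5, 2],
  [0, 1, 2, 6], [2, 3, 5, 6], [1, 2, 4, 6], [6, 5, 2], [2, 6], [0, 1, 6],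
  [0, 6], [2], [1, 2], [2, 5], [4, 2, 5], [1, 2, 6, 5],
  [1, 2], [2, 6, 6], [6, 5, 6, 4], [1, 2, 6, 5], [1, 2, 3], [2, 6, 5, 6],
  [6, 6, 4], [2, 6, 4, 5], [1, 6], [1, 6], [6, 4], [0, 2],
  [0, 1, 2], [2, 3, 5], [0, 2, 5], [2, 6, 5], [1, 2, 4], [2, 6, 6, 4],
  [6, 5, 6], [2, 6, 5, 3], [0, 1, 2], [2, 6, 5, 6, 4], [6, 6], [2, 6, 5],
  [6], [1, 6, 4], [6], [2], [2], [0, 1],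
  [1], [1], [0], [2, 6, 6], [6, 5, 6], [0, 1],
  [], [2, 6, 5, 6], [6, 6], [1], [], [0],
  []]

/-- Permutations moving masks to normal form. -/
def normSeq : List (List (Fin 7)) := normSeqA ++ normSeqB

end CfsgLib.StdO8
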