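import Cfsg.Agent.StdO8.PullDef

/-! Certificates writing signed permutations as products of iterated commutators. -/

set_option autoImplicit false
set_option maxRecDepth 8000

namespace CfsgLib.StdO8

/-- Certificates. -/
def pullTwo : List (ℕ × List Cert) := [
  (252, [⟨([4], 136), ([6, 6, 4, 6, 5], 222), ([3, 5, 6, 6, 4, 6], 63), ([6, 6, 4, 6, 4, 5], 96), ([3], 24), ([4], 72), ([], 252)⟩])]

/-- Certificates. -/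
def pullFourQ : List (ℕ × List Cert) := [
  (3, [⟨([1], 58), ([4, 6, 4, 2, 6, 6], 120), ([0, 3, 5], 219), ([3, 1, 4, 6, 4, 6, 6], 5), ([], 250), ([0, 3, 6, 4, 6, 6, 4], 159), ([], 3)⟩]),
  (5, [⟨([1, 3, 5, 6, 4, 6, 5, 6], 45), ([0, 1], 54), ([5, 6, 4, 2, 6, 5, 6], 29), ([1, 3], 15), ([], 6), ([1, 3, 5, 6, 4, 6, 6], 150), ([], 5)⟩]),
  (9, [⟨([1, 5, 6, 4, 6, 6], 153), ([1, 3, 6, 4, 6, 5, 6, 4], 219), ([], 30), ([1, 5, 6, 4, 6, 6], 225), ([1, 5, 6, 4, 6, 5, 6], 195), ([], 5), ([], 9)⟩]),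
  (48, [⟨([0, 5, 6, 4, 6, 5, 6], 119), ([3, 4], 116), ([0, 1, 6, 5, 6, 6, 4, 6], 111), ([6, 4, 2, 6, 6, 4], 172), ([3, 1, 6, 4, 6, 6, 4], 156), ([3, 1, 6, 4, 6, 6, 4], 172), ([], 48)⟩]),
  (80, [⟨([0, 6, 4, 6, 6, 4], 222), ([0, 5, 6, 4, 6, 5, 6], 57), ([4], 90), ([0, 4], 33), ([4, 6, 4, 2, 6, 5, 6], 240), ([], 63), ([], 80)⟩]),
  (144, [⟨([3, 1, 4], 80), ([1, 4, 6, 4, 6, 6], 135), ([0, 1], 222), ([0, 1, 5], 77), ([1, 4, 6, 4, 6, 5, 6], 58), ([], 95), ([], 144)⟩])]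

/-- Certificates. -/
def pullFourN : List (ℕ × List Cert) := [
  (3, [⟨([1, 5, 6, 4, 6], 136), ([0, 3, 4, 6], 72), ([], 156), ([0, 3, 4, 6, 6], 175), ([0, 4, 6, 4, 6, 5, 6], 72), ([], 249), ([], 3)⟩]),
  (5, [⟨([1, 5, 6, 4], 111), ([0, 4, 6, 4, 6, 5], 126), ([], 149), ([3, 6, 4, 6, 5, 6], 144), ([2, 4, 6, 5, 6, 5], 92), ([], 6), ([], 5)⟩]),
  (17, [⟨([2, 6, 5, 6, 4, 6, 6], 237), ([6, 6], 71), ([3, 6, 4, 6, 5], 105), ([1, 5, 6, 4, 6, 6], 9), ([1, 5, 3, 6, 4], 77), ([], 237), ([], 17)⟩]),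
  (40, [⟨([0, 3, 4, 6, 6], 178), ([2, 4, 6, 5, 6, 5], 237), ([6], 153), ([3, 6, 4, 6, 5, 6], 96), ([6], 192), ([6, 6], 40), ([], 40)⟩]),
  (72, [⟨([3, 6, 4, 6, 5], 114), ([2, 3, 6, 4, 5, 6, 5], 66), ([3, 6, 4, 6, 5], 17), ([0, 3, 4], 210), ([2, 3, 6, 4, 5, 6, 5], 17), ([0, 4, 6, 4, 6, 5], 154), ([], 72)⟩]),
  (136, [⟨([6], 130), ([2, 6, 5, 6, 4, 6, 6], 113), ([], 101), ([2, 6, 5, 6, 4], 215), ([2, 3, 6, 4, 5, 6, 5], 43), ([], 183), ([], 136)⟩])]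

/-- Certificates. -/
def pullSix : List (ℕ × List Cert) := [
  (12, [⟨([0, 3], 10), ([0, 4, 5, 6, 6, 4, 6, 5], 15), ([4], 17), ([6, 6, 4, 6], 89), ([3, 4], 39), ([3], 60), ([], 12)⟩]),
  (20, [⟨([0, 3, 6, 6, 4, 6, 5], 12), ([0, 5, 6, 6, 4, 6, 5], 29), ([4, 6, 6, 4, 6], 210), ([4, 5, 6, 6, 4, 6, 5], 246), ([5, 6, 6, 4, 6], 43), ([6, 6, 4, 6, 5], 24), ([], 20)⟩]),
  (36, [⟨([5], 57), ([4, 6, 6, 4, 6], 215), ([0, 3], 228), ([4, 6, 6, 4, 6], 255), ([3, 6, 6, 4, 6, 5], 72), ([], 120), ([], 36)⟩]),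
  (68, [⟨([4, 5], 189), ([0, 4, 5, 6, 6, 4, 6], 130), ([4, 6, 4, 6, 5, 6, 6], 210), ([0, 6, 6, 4, 6, 4, 5], 165), ([4, 5, 6, 6, 4, 6], 195), ([6, 6, 4, 6, 4, 5], 111), ([], 68)⟩]),
  (132, [⟨([4, 5], 226), ([0, 6, 4, 6, 5, 6, 6], 68), ([6, 6, 4, 6, 5], 9), ([0, 3, 6, 6, 4, 6], 156), ([3, 5, 6, 6, 4, 6], 43), ([3, 5, 6, 6, 4, 6], 175), ([], 132)⟩])]

/-- Certificates. -/
def pullTwist0 : List (ℕ × List Cert) := [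
  (255, [⟨([0, 5, 6, 6, 4, 6, 5], 105), ([0, 2], 90), ([2, 4, 6, 6, 4, 6, 5], 135), ([1, 4, 6, 6, 4, 6, 5], 75), ([1, 2], 60), ([0, 1], 105), ([], 255)⟩])]

/-- Certificates. -/
def pullTwist1 : List (ℕ × List Cert) := [
  (255, [⟨([], 95), ([0], 85), ([0, 2, 3, 5, 6, 4, 6], 24), ([0, 3, 5, 6, 4, 6, 5], 216), ([], 240), ([0, 5, 2], 6), ([], 255)⟩])]

/-- Certificates. -/
def pullTwist2 : List (ℕ × List Cert) := [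
  (255, [⟨([0, 2, 6, 6, 4, 6], 3), ([0, 4, 6, 5, 3, 1], 71), ([0, 6, 5, 3, 6, 4], 66), ([4, 6, 5], 63), ([0, 6, 5, 6, 4, 2, 6], 178), ([0, 6, 5, 6, 4, 2, 6], 129), ([], 255)⟩])]

/-- Certificates. -/
def pullTwist3 : List (ℕ × List Cert) := [
  (255, [⟨([2, 3, 5, 6, 4, 6, 5, 6], 123), ([0, 6, 4, 5, 6], 95), ([0, 6, 5, 6, 4, 6], 246), ([2], 102), ([0, 2], 0), ([], 153), ([], 255)⟩])]

/-- Certificates. -/
def pullTwist4 : List (ℕ × List Cert) := [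
  (255, [⟨([1, 3, 6, 6, 4, 6], 63), ([5, 2, 3, 6, 6], 108), ([0, 6, 4, 6, 5, 3], 111), ([4, 2, 5, 6, 4, 6], 77), ([1, 2, 3, 6, 4, 6, 5], 126), ([1, 2, 3, 6, 4, 6, 5], 36), ([], 255)⟩])]

/-- Certificates. -/
def pullTwist5 : List (ℕ × List Cert) := [
  (255, [⟨([2, 6, 4, 6, 6, 4], 20), ([2, 6, 4, 6, 6, 4], 139), ([1, 4], 95), ([0, 2, 5, 6, 4, 6, 6], 123), ([], 147), ([0, 1, 5], 6), ([], 255)⟩])]

/-- Certificates. -/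
def pullTwist6 : List (ℕ × List Cert) := [
  (255, [⟨([2, 4, 5, 6, 4, 6, 4], 175), ([2, 4, 6, 5, 3, 6], 33), ([0, 2, 5, 6, 6, 4, 6, 5], 149), ([3, 6, 4], 166), ([0, 5, 2, 6, 6, 4, 6, 5], 23), ([1, 6, 4, 5, 6, 6], 119), ([], 255)⟩])]

/-- Certificates. -/
def pullTwist7 : List (ℕ × List Cert) := [
  (255, [⟨([5], 58), ([2, 5, 3], 63), ([0], 245), ([0, 5, 2, 3], 243), ([0, 1, 4], 89), ([], 149), ([], 255)⟩])]

/-- Certificates. -/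
def pullTwist8 : List (ℕ × List Cert) := [
  (255, [⟨([2], 240), ([1, 3, 4], 149), ([0, 1, 4, 6, 6, 4, 6], 192), ([1, 6, 6, 4, 6, 4], 209), ([0], 51), ([0], 166), ([], 255)⟩])]

/-- Certificates. -/
def pullTwist9 : List (ℕ × List Cert) := [
  (255, [⟨([5, 2, 6, 4], 125), ([5, 2, 6, 4], 154), ([2, 6, 5, 6, 4, 6], 246), ([1, 4, 6, 4, 6, 5, 6, 6], 40), ([], 165), ([2, 6, 5, 3, 6, 4], 75), ([], 255)⟩])]

/-- Certificates. -/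
def pullTwist10 : List (ℕ × List Cert) := [
  (255, [⟨([2, 3, 1], 147), ([2, 3, 5], 54), ([0, 4], 249), ([3, 5, 2], 163), ([1, 4], 60), ([0], 166), ([], 255)⟩])]

/-- Certificates. -/
def pullTwist11 : List (ℕ × List Cert) := [
  (255, [⟨([5, 2, 6, 4, 6, 6], 130), ([2, 4, 6, 4, 6, 6], 68), ([4, 2, 6, 4, 6, 6], 120), ([5, 2, 6, 4, 6, 6], 68), ([0, 1, 5], 154), ([0, 5], 89), ([], 255)⟩])]

/-- Certificates. -/
def pullTwist12 : List (ℕ × List Cert) := [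
  (255, [⟨([3, 6, 6, 4, 6], 210), ([1, 4, 6, 6, 4, 6], 183), ([1, 3, 4, 2], 240), ([3], 86), ([2, 3], 89), ([0], 0), ([], 255)⟩])]

/-- Certificates. -/
def pullTwist13 : List (ℕ × List Cert) := [
  (255, [⟨([0], 89), ([2, 3, 1, 6, 4, 6, 5, 6], 54), ([0, 1, 4, 5], 170), ([6, 5, 2, 6, 6, 4, 6, 4], 163), ([0, 1], 197), ([0, 1], 153), ([], 255)⟩])]

/-- Certificates. -/
def pullTwist14 : List (ℕ × List Cert) := [
  (255, [⟨([1, 2, 6, 5, 6, 6, 4, 6], 154), ([5], 15), ([0], 165), ([6, 5, 2, 6, 6, 4, 6, 4], 163), ([0, 4, 5], 240), ([0, 1], 102), ([], 255)⟩])]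

/-- Certificates. -/
def pullTwist15 : List (ℕ × List Cert) := [
  (255, [⟨([0, 4, 6, 4, 6, 5, 6, 6], 142), ([2, 6, 4, 6, 5, 6, 6], 27), ([0, 5, 6, 6, 4, 6, 5], 142), ([6, 4, 2, 6, 5, 6, 6], 20), ([1, 2, 3, 4], 86), ([1, 3, 4, 2], 86), ([], 255)⟩])]

/-- Certificates. -/
def pullTwist16 : List (ℕ × List Cert) := [
  (255, [⟨([0, 2, 3], 178), ([0, 3, 4], 20), ([4, 6, 4, 6, 5, 6, 6], 48), ([0, 1, 4], 215), ([0], 169), ([1, 2, 3, 4], 240), ([], 255)⟩])]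

/-- The certificates for the twisted classes. -/
def pullTwist : List (List (ℕ × List Cert)) := [pullTwist0, pullTwist1, pullTwist2, pullTwist3, pullTwist4, pullTwist5, pullTwist6, pullTwist7, pullTwist8, pullTwist9, pullTwist10, pullTwist11, pullTwist12, pullTwist13, pullTwist14, pullTwist15, pullTwist16]

end CfsgLib.StdO8
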