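import Cfsg.Agent.StdO8.TraceDef

/-! Tables for the trace obstructions. -/

set_option autoImplicit false
set_option maxRecDepth 8000

namespace CfsgLib.StdO8

/-- The search. -/
def chainFourQ : List Step := [
  .grow [8],
  .grow [-8],
  .grow [-4, 0, 4],
  .grow [-4, 0, 4],
  .test [(0, 0), (15, 1), (240, 2), (255, 3)] [0, 16],
  .grow [-4, 0, 4],
  .test [(0, 0), (3, 4), (5, 4), (6, 4), (9, 4), (10, 4), (12, 4), (15, 1)] [0, 3],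
  .grow [-4, 0, 4],
  .test [(0, 0), (3, 4), (5, 4), (6, 4), (9, 4), (10, 4), (12, 4), (15, 1), (240, 2), (243, 5), (245, 5), (246, 5), (249, 5), (250, 5), (252, 5), (255, 3)] [0, 1],
  .grow [-4, 0, 4],
  .grow [-4, 0, 4],
  .test [(0, 0), (15, 1), (48, 6), (63, 7), (80, 6), (95, 7), (96, 6), (111, 7), (144, 6), (159, 7), (160, 6), (175, 7), (192, 6), (207, 7), (240, 2), (255, 3)] [0, 1, 48],
  .grow [-4, 0, 4],
  .test [(0, 0), (15, 1), (51, 8), (60, 8), (85, 8), (90, 8), (102, 8), (105, 8), (150, 8), (153, 8), (165, 8), (170, 8), (195, 8), (204, 8), (240, 2), (255, 3)] [0, 3],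
  .grow [-4, 0, 4],
  .test [(0, 0), (3, 4), (5, 4), (6, 4), (9, 4), (10, 4), (12, 4), (15, 1), (48, 6), (51, 8), (53, 9), (54, 9), (57, 9), (58, 9), (60, 8), (63, 7), (80, 6), (83, 9), (85, 8), (86, 9), (89, 9), (90, 8), (92, 9), (95, 7), (96, 6), (99, 9), (101, 9), (102, 8), (105, 8), (106, 9), (108, 9), (111, 7), (144, 6), (147, 9), (149, 9), (150, 8), (153, 8), (154, 9), (156, 9), (159, 7), (160, 6), (163, 9), (165, 8), (166, 9), (169, 9), (170, 8), (172, 9), (175, 7), (192, 6), (195, 8), (197, 9), (198, 9), (201, 9), (202, 9), (204, 8), (207, 7), (240, 2), (243, 5), (245, 5), (246, 5), (249, 5), (250, 5), (252, 5), (255, 3)] [0, 1, 17]]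

/-- The orbits. -/
def orbitFourQ : List (ℕ × ℕ × List (Fin 7)) := [
  (0, 0, []), (3, 4, []), (5, 4, [3, 6, 4, 6, 6]), (6, 4, [0, 6, 4, 6, 6]),
  (9, 4, [6, 4, 6, 6]), (10, 4, [0, 3, 6, 4, 6, 6]), (12, 4, [1]), (15, 1, []),
  (48, 6, []), (51, 8, []), (53, 9, []), (54, 9, [0, 3]),
  (57, 9, [3]), (58, 9, [0]), (60, 8, [1, 5]), (63, 7, []),
  (80, 6, [3, 6, 4, 6, 6]), (83, 9, [3, 6, 4, 6, 5, 6]), (85, 8, [3, 6, 4, 6, 6]), (86, 9, [1, 3, 6, 4, 6, 6]),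
  (89, 9, [3, 6, 4, 6, 6]), (90, 8, [0, 3, 4, 6, 4, 6, 6]), (92, 9, [1, 3, 6, 4, 6, 5, 6]), (95, 7, [3, 6, 4, 6, 6]),
  (96, 6, [0, 6, 4, 6, 6]), (99, 9, [0, 6, 4, 6, 5, 6]), (101, 9, [1, 6, 4, 6, 6]), (102, 8, [0, 6, 4, 6, 6]),
  (105, 8, [4, 6, 4, 6, 6]), (106, 9, [0, 6, 4, 6, 6]), (108, 9, [1, 6, 4, 6, 5, 6]), (111, 7, [0, 6, 4, 6, 6]),
  (144, 6, [6, 4, 6, 6]), (147, 9, [6, 4, 6, 5, 6]), (149, 9, [6, 4, 6, 6]), (150, 8, [0, 4, 6, 4, 6, 6]),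
  (153, 8, [6, 4, 6, 6]), (154, 9, [6, 4, 2, 6, 6]), (156, 9, [6, 4, 2, 6, 5, 6]), (159, 7, [6, 4, 6, 6]),
  (160, 6, [0, 3, 6, 4, 6, 6]), (163, 9, [6, 5, 6, 6, 4, 6]), (165, 8, [3, 4, 6, 4, 6, 6]), (166, 9, [0, 3, 6, 4, 6, 6]),
  (169, 9, [3, 1, 6, 4, 6, 6]), (170, 8, [0, 3, 6, 4, 6, 6]), (172, 9, [1, 6, 5, 6, 6, 4, 6]), (175, 7, [0, 3, 6, 4, 6, 6]),
  (192, 6, [1]), (195, 8, [5]), (197, 9, [1]), (198, 9, [1, 3]),
  (201, 9, [3, 1]), (202, 9, [0, 1]), (204, 8, [1]), (207, 7, [1]),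
  (240, 2, []), (243, 5, []), (245, 5, [3, 6, 4, 6, 6]), (246, 5, [0, 6, 4, 6, 6]),
  (249, 5, [6, 4, 6, 6]), (250, 5, [0, 3, 6, 4, 6, 6]), (252, 5, [1]), (255, 3, [])]

/-- Their representatives. -/
def repsFourQ : List ℕ := [0, 15, 240, 255, 3, 243, 48, 63, 51, 53]

/-- The search. -/
def chainFourN : List Step := [
  .grow [8],
  .grow [-8],
  .grow [-4, 0, 4],
  .grow [-4, 0, 4],
  .test [(0, 0), (23, 1), (232, 2), (255, 3)] [0, 8],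
  .grow [-4, 0, 4],
  .test [(0, 0), (3, 4), (5, 4), (6, 4), (17, 4), (18, 4), (20, 4), (23, 1)] [0, 3],
  .grow [-4, 0, 4],
  .test [(0, 0), (3, 4), (5, 4), (6, 4), (17, 4), (18, 4), (20, 4), (23, 1), (232, 2), (235, 5), (237, 5), (238, 5), (249, 5), (250, 5), (252, 5), (255, 3)] [0, 1],
  .grow [-4, 0, 4],
  .grow [-4, 0, 4],
  .test [(0, 0), (23, 1), (40, 6), (63, 7), (72, 6), (95, 7), (96, 6), (119, 7), (136, 6), (159, 7), (160, 6), (183, 7), (192, 6), (215, 7), (232, 2), (255, 3)] [0, 1, 40],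
  .grow [0, 4],
  .grow [-4, 0, 4],
  .test [(0, 0), (23, 1), (43, 8), (60, 9), (77, 8), (90, 9), (102, 9), (113, 8), (142, 8), (153, 9), (165, 9), (178, 8), (195, 9), (212, 8), (232, 2), (255, 3)] [0, 15, 3],
  .grow [-4, 0, 4],
  .test [(0, 0), (3, 4), (5, 4), (6, 4), (17, 4), (18, 4), (20, 4), (23, 1), (40, 6), (43, 8), (45, 10), (46, 10), (57, 10), (58, 10), (60, 9), (63, 7), (72, 6), (75, 10), (77, 8), (78, 10), (89, 10), (90, 9), (92, 10), (95, 7), (96, 6), (99, 10), (101, 10), (102, 9), (113, 8), (114, 10), (116, 10), (119, 7), (136, 6), (139, 10), (141, 10), (142, 8), (153, 9), (154, 10), (156, 10), (159, 7), (160, 6), (163, 10), (165, 9), (166, 10), (177, 10), (178, 8), (180, 10), (183, 7), (192, 6), (195, 9), (197, 10), (198, 10), (209, 10), (210, 10), (212, 8), (215, 7), (232, 2), (235, 5), (237, 5), (238, 5), (249, 5), (250, 5), (252,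 5), (255, 3)] [0, 1, 9]]

/-- The orbits. -/
def orbitFourN : List (ℕ × ℕ × List (Fin 7)) := [
  (0, 0, []), (3, 4, []), (5, 4, [6]), (6, 4, [0, 3, 4, 6]),
  (17, 4, [6, 6]), (18, 4, [0, 3, 4, 6, 6]), (20, 4, [1, 5, 6, 4, 6]), (23, 1, []),
  (40, 6, []), (43, 8, []), (45, 10, []), (46, 10, [0, 3, 4]),
  (57, 10, [5, 6, 6, 4, 6, 5]), (58, 10, [0, 4, 6, 4, 6, 5, 6, 6]), (60, 9, []), (63, 7, []),
  (72, 6, [6]), (75, 10, [3, 6, 4, 6, 5, 6]), (77, 8, [6]), (78, 10, [1, 3, 6, 4, 6, 6, 4]),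
  (89, 10, [6]), (90, 9, [6]), (92, 10, [1, 5, 6, 4]), (95, 7, [6]),
  (96, 6, [6, 6]), (99, 10, [6, 6]), (101, 10, [3, 6, 4, 6, 5]), (102, 9, [6, 6]),
  (113, 8, [6, 6]), (114, 10, [2, 6, 5, 6, 4]), (116, 10, [2, 3, 6, 4, 5, 6, 5]), (119, 7, [6, 6]),
  (136, 6, [0, 3, 4, 6]), (139, 10, [0, 4, 6, 4, 6, 5, 6]), (141, 10, [1, 5, 6, 4, 6, 6]), (142, 8, [0, 3, 4, 6]),
  (153, 9, [0, 3, 4, 6]), (154, 10, [0, 3, 4, 6]), (156, 10, [1, 5, 3, 6, 4]), (159, 7, [0, 3, 4, 6]),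
  (160, 6, [0, 3, 4, 6, 6]), (163, 10, [0, 3, 4, 6, 6]), (165, 9, [0, 3, 4, 6, 6]), (166, 10, [0, 4, 6, 4, 6, 5]),
  (177, 10, [2, 4, 6, 5, 6, 5]), (178, 8, [0, 3, 4, 6, 6]), (180, 10, [2, 6, 5, 6, 4, 6]), (183, 7, [0, 3, 4, 6, 6]),
  (192, 6, [1, 5, 6, 4, 6]), (195, 9, [1, 5, 6, 4, 6]), (197, 10, [1, 5, 3, 6, 4, 6]), (198, 10, [1, 5, 6, 4, 6]),
  (209, 10, [2, 6, 5, 6, 4, 6, 6]), (210, 10, [2, 6, 5, 3, 6, 4]), (212, 8, [1, 5, 6, 4, 6]), (215, 7, [1, 5, 6, 4, 6]),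
  (232, 2, []), (235, 5, []), (237, 5, [6]), (238, 5, [0, 3, 4, 6]),
  (249, 5, [6, 6]), (250, 5, [0, 3, 4, 6, 6]), (252, 5, [1, 5, 6, 4, 6]), (255, 3, [])]

/-- Their representatives. -/
def repsFourN : List ℕ := [0, 23, 232, 255, 3, 235, 40, 63, 43, 60, 45]

/-- The search. -/
def chainSix : List Step := [
  .grow [8],
  .grow [-8],
  .grow [-4, 0, 4],
  .grow [-4, 0, 4],
  .test [(0, 0), (12, 2), (48, 2), (60, 3), (192, 2), (204, 3), (240, 3), (252, 1)] [0, 84, 20],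
  .grow [-4, 0, 4],
  .grow [-4, 0, 4],
  .test [(0, 0), (12, 2), (20, 4), (24, 4), (36, 4), (40, 4), (48, 2), (60, 3), (68, 4), (72, 4), (80, 4), (92, 5), (96, 4), (108, 5), (116, 5), (120, 5), (132, 4), (136, 4), (144, 4), (156, 5), (160, 4), (172, 5), (180, 5), (184, 5), (192, 2), (204, 3), (212, 5), (216, 5), (228, 5), (232, 5), (240, 3), (252, 1)] [0, 4]]

/-- The orbits. -/
def orbitSix : List (ℕ × ℕ × List (Fin 7)) := [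
  (0, 0, []), (12, 2, []), (20, 4, []), (24, 4, [3]),
  (36, 4, [4]), (40, 4, [0]), (48, 2, [5, 6, 6, 4, 6]), (60, 3, []),
  (68, 4, [5]), (72, 4, [5, 3]), (80, 4, [6, 6, 4, 6]), (92, 5, []),
  (96, 4, [6, 6, 4, 6, 4]), (108, 5, [0, 3]), (116, 5, [5, 6, 6, 4, 6]), (120, 5, [5, 3, 6, 6, 4, 6]),
  (132, 4, [4, 5]), (136, 4, [0, 5]), (144, 4, [3, 6, 6, 4, 6]), (156, 5, [3]),
  (160, 4, [0, 6, 6, 4, 6]), (172, 5, [0]), (180, 5, [4, 5, 6, 6, 4, 6]), (184, 5, [0, 5, 6, 6, 4, 6]),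
  (192, 2, [6, 6, 4, 6]), (204, 3, [5]), (212, 5, [6, 6, 4, 6]), (216, 5, [3, 6, 6, 4, 6]),
  (228, 5, [4, 6, 6, 4, 6]), (232, 5, [0, 6, 6, 4, 6]), (240, 3, [6, 6, 4, 6]), (252, 1, [])]

/-- Their representatives. -/
def repsSix : List ℕ := [0, 252, 12, 60, 20, 92]

end CfsgLib.StdO8
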